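import Mathlib
import Cfsg.Prelude.Def_Characters
import Cfsg.Agent.Lib.Helper80.CharOps
import Cfsg.Agent.Lib.Helper80.CharKer
import Cfsg.Agent.Lib.Helper80.Complete

/-!
# Degrees divide the index of subgroups acting by scalars

The tensor power trick: if the subgroup `A` acts by scalars in the irreducible character `χ`,
then `χ(1) |A|` divides `|G|`.
-/

set_option autoImplicit false

namespace Cfsg.Agent.Lib.Helper82

open Cfsg.Agent.Lib.Helper80
open scoped ComplexConjugate

universe u v

/-- If `x ^ m ∣ y ^ m * c` for all `m` (with `c ≠ 0`), then `x ∣ y`. -/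
theorem dvd_of_forall_pow_dvd {x y c : ℕ} (hc : c ≠ 0) (hy : y ≠ 0)
    (h : ∀ m : ℕ, x ^ m ∣ y ^ m * c) : x ∣ y := by
  have hx : x ≠ 0 := by
    rintro rfl
    have h1 := h 1
    rw [pow_one, pow_one, zero_dvd_iff] at h1
    exact mul_ne_zero hy hc h1
  rw [← Nat.factorization_prime_le_iff_dvd hx hy]
  intro q _
  set m := c.factorization q + 1 with hm
  have h1 := (Nat.factorization_le_iff_dvd (pow_ne_zero m hx)
    (mul_ne_zero (pow_ne_zero m hy) hc)).2 (h m) q
  rw [Nat.factorization_mul (pow_ne_zero m hy) hc, Nat.factorization_pow,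
    Nat.factorization_pow] at h1
  simp only [Finsupp.coe_add, Finsupp.coe_smul, Pi.add_apply, Pi.smul_apply, smul_eq_mul] at h1
  by_contra hlt
  rw [not_le] at hlt
  have h2 : m * (y.factorization q + 1) ≤ m * x.factorization q := Nat.mul_le_mul_left m hlt
  nlinarith

/-- **Tensor power trick.**  If the elements of the subgroup `A` act by scalars (given by the
homomorphism `lam`) in the irreducible character `χ`, then `χ(1) |A|` divides `|G|`. -/
theorem charDegree_mul_card_dvd {G : Type u} [Group G] [Finite G] {χ : G → ℂ}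
    (hχ : Cfsg.IsIrrCharacter G χ) (A : Subgroup G) (lam : ↥A →* ℂˣ)
    (hA : ∀ a : ↥A, χ a = (lam a : ℂ) * χ 1) :
    Cfsg.charDegree χ * Nat.card A ∣ Nat.card G := by
  classical
  have : Fintype G := Fintype.ofFinite G
  have hχc := isCharacter_of_isIrrCharacter hχ
  set d := Cfsg.charDegree χ with hd
  have hχ1 : χ 1 = (d : ℂ) := char_one_eq_charDegree hχc
  have hG0 : Nat.card G ≠ 0 := Nat.card_pos.ne'
  have hGC : (Nat.card G : ℂ) ≠ 0 := by exact_mod_cast hG0
  refine dvd_of_forall_pow_dvd (c := Nat.card lam.range) Nat.card_pos.ne' hG0 (fun m => ?_)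
  -- the product character on `G ^ m`
  let Φ : (Fin m → G) → ℂ := fun g => ∏ i, χ (g i)
  have hΦc : Cfsg.IsCharacter (Fin m → G) Φ := by
    have h1 : Φ = ∏ i : Fin m, (fun g : Fin m → G => χ (g i)) := by
      funext g
      rw [Finset.prod_apply]
    rw [h1]
    refine Finset.prod_induction _ (Cfsg.IsCharacter (Fin m → G))
      (fun a b ha hb => isCharacter_mul ha hb) isCharacter_one (fun i _ => ?_)
    exact isCharacter_comp (Pi.evalMonoidHom (fun _ : Fin m => G) i) hχc
  have hsum : ∑ x : G, χ x * conj (χ x) = (Nat.card G : ℂ) := by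
    have h1 := classInner_self hχ
    unfold Cfsg.classInner at h1
    have h2 := congrArg (fun z => (Nat.card G : ℂ) * z) h1
    simp only [mul_one] at h2
    rwa [← mul_assoc, mul_inv_cancel₀ hGC, one_mul] at h2
  have hcardm : Nat.card (Fin m → G) = Nat.card G ^ m := by
    rw [Nat.card_fun, Nat.card_eq_fintype_card (α := Fin m), Fintype.card_fin]
  have hΦirr : Cfsg.IsIrrCharacter (Fin m → G) Φ := by
    have : Fintype (Cfsg.IrrCharacter (Fin m → G)) := Fintype.ofFinite _
    apply isIrrCharacter_of_classInner_eq_one hΦc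
    unfold Cfsg.classInner
    have h1 : ∑ g : Fin m → G, Φ g * conj (Φ g) = (Nat.card G : ℂ) ^ m := by
      have h2 : ∀ g : Fin m → G, Φ g * conj (Φ g) = ∏ i, (χ (g i) * conj (χ (g i))) := by
        intro g
        show (∏ i, χ (g i)) * conj (∏ i, χ (g i)) = _
        rw [map_prod, Finset.prod_mul_distrib]
      simp only [h2]
      rw [← Fintype.prod_sum (fun (_ : Fin m) (x : G) => χ x * conj (χ x))]
      simp [hsum]
    rw [h1, hcardm, Nat.cast_pow, inv_mul_cancel₀ (pow_ne_zero m hGC)]
  have hΦ1 : Φ 1 = (χ 1) ^ m := by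
    show ∏ i : Fin m, χ ((1 : Fin m → G) i) = _
    simp
  have hdeg : Cfsg.charDegree Φ = d ^ m := by
    have h1 := char_one_eq_charDegree hΦc
    rw [hΦ1, hχ1] at h1
    have h2 : ((d ^ m : ℕ) : ℂ) = (Cfsg.charDegree Φ : ℂ) := by rw [← h1]; push_cast; rfl
    exact (Nat.cast_injective h2).symm
  obtain ⟨K, _, hK⟩ := exists_ker_subgroup hΦc
  have hdiv := card_ker_mul_charDegree_dvd hΦirr
  have hKcard : Nat.card {g : Fin m → G // Φ g = Φ 1} = Nat.card K :=
    Nat.card_congr (Equiv.subtypeEquivRight (fun g => (hK g).symm))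
  rw [hKcard, hdeg, hcardm] at hdiv
  -- the subgroup of `A ^ m` acting trivially
  let ι : (Fin m → ↥A) →* (Fin m → G) := (A.subtype).compLeft (Fin m)
  have hι : Function.Injective ι := by
    intro a b hab
    funext i
    exact Subtype.ext (congrFun hab i)
  let Λ : (Fin m → ↥A) →* ℂˣ :=
    { toFun := fun a => ∏ i, lam (a i)
      map_one' := by simp
      map_mul' := by
        intro a b
        simp [Finset.prod_mul_distrib] }
  have hNK : (Λ.ker).map ι ≤ K := by
    rintro _ ⟨a, ha, rfl⟩
    rw [hK, hΦ1]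
    have ha' : ∏ i, lam (a i) = 1 := ha
    show ∏ i : Fin m, χ ((a i : ↥A) : G) = _
    simp only [hA, Finset.prod_mul_distrib, Finset.prod_const, Finset.card_univ, Fintype.card_fin]
    rw [← Units.coe_prod, ha', Units.val_one, one_mul]
  have hN1 : Nat.card ((Λ.ker).map ι) = Nat.card Λ.ker := Subgroup.card_map_of_injective hι
  have hN2 : Nat.card Λ.ker * Nat.card Λ.range = Nat.card A ^ m := by
    rw [← Subgroup.index_ker, Subgroup.card_mul_index, Nat.card_fun,
      Nat.card_eq_fintype_card (α := Fin m), Fintype.card_fin]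
  have hrange : Nat.card Λ.range ∣ Nat.card lam.range := by
    apply Subgroup.card_dvd_of_le
    rintro _ ⟨a, rfl⟩
    show ∏ i, lam (a i) ∈ lam.range
    exact Subgroup.prod_mem lam.range (fun i _ => MonoidHom.mem_range.2 ⟨a i, rfl⟩)
  have h3 : Nat.card Λ.ker * d ^ m ∣ Nat.card G ^ m := by
    refine Dvd.dvd.trans ?_ hdiv
    rw [← hN1]
    exact Nat.mul_dvd_mul_right (Subgroup.card_dvd_of_le hNK) _
  calc (d * Nat.card A) ^ m = (Nat.card Λ.ker * d ^ m) * Nat.card Λ.range := by
        rw [mul_pow, ← hN2]; ring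
    _ ∣ Nat.card G ^ m * Nat.card lam.range := Nat.mul_dvd_mul h3 hrange

/-- Representation form: if every `ρ a`, `a ∈ A`, is a scalar then `dim V * |A|` divides
`|G|`. -/
theorem finrank_mul_card_dvd_of_scalar {G : Type u} [Group G] [Finite G] {V : Type v}
    [AddCommGroup V] [Module ℂ V] [FiniteDimensional ℂ V] (ρ : Representation ℂ G V)
    [ρ.IsIrreducible] (A : Subgroup G)
    (hA : ∀ a ∈ A, ∃ c : ℂ, ρ a = c • (1 : Module.End ℂ V)) :
    Module.finrank ℂ V * Nat.card A ∣ Nat.card G := by
  classical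
  have hnt : Nontrivial V := nontrivial_of_isIrreducible ρ
  choose c hc using fun a : ↥A => hA a a.2
  have hinj : ∀ x y : ℂ, x • (1 : Module.End ℂ V) = y • (1 : Module.End ℂ V) → x = y := by
    intro x y h
    obtain ⟨w, hw⟩ := exists_ne (0 : V)
    have h1 := congrArg (fun f : Module.End ℂ V => f w) h
    simp only [LinearMap.smul_apply, Module.End.one_apply] at h1
    exact smul_left_injective ℂ hw h1
  have hc1 : c 1 = 1 := by
    apply hinj
    rw [← hc 1, one_smul]
    simp
  have hcmul : ∀ a b : ↥A, c (a * b) = c a * c b := by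
    intro a b
    apply hinj
    rw [← hc (a * b)]
    show ρ ((a : G) * (b : G)) = _
    rw [map_mul, hc a, hc b, smul_mul_smul_comm, mul_one]
  let lam0 : ↥A →* ℂ := ⟨⟨c, hc1⟩, hcmul⟩
  have hχ := isIrrCharacter_of_rep ρ
  have h := charDegree_mul_card_dvd hχ A lam0.toHomUnits (fun a => by
    rw [MonoidHom.coe_toHomUnits]
    show ρ.character a = c a * ρ.character 1
    unfold Representation.character
    rw [hc a, map_one, map_smul, smul_eq_mul])
  have hdeg : Cfsg.charDegree ρ.character = Module.finrank ℂ V := by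
    unfold Cfsg.charDegree
    rw [Representation.char_one]
    simp
  rwa [hdeg] at h

end Cfsg.Agent.Lib.Helper82
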