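import Mathlib
import Cfsg.Prelude.Def_Characters
import Cfsg.Agent.Lib.Helper75.CliffordCorr2
import Cfsg.Agent.Lib.Helper15.LinChar
import Cfsg.Agent.Lib.Helper82.AbelianSylow
import Cfsg.Agent.Lib.Helper82.ScalarDvd

/-!
# Itô's theorem

The degree of an irreducible character divides the index of every abelian normal subgroup.
-/

set_option autoImplicit false
set_option linter.style.haveILetI false

namespace Cfsg.Agent.Lib.Helper82

open Cfsg.Agent.Lib.Helper75

universe u v

/-- **Itô's theorem**, character form. -/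
theorem ito_charDegree_dvd {G : Type u} [Group G] [Finite G] {χ : G → ℂ}
    (hχ : Cfsg.IsIrrCharacter G χ) (N : Subgroup G) [hN : N.Normal]
    (hab : ∀ a ∈ N, ∀ b ∈ N, a * b = b * a) : Cfsg.charDegree χ ∣ N.index := by
  classical
  haveI : Fintype G := Fintype.ofFinite G
  haveI : Fintype ↥N := Fintype.ofFinite ↥N
  haveI : Fintype (Cfsg.IrrCharacter ↥N) := Fintype.ofFinite _
  have hχch := Cfsg.Agent.Lib.Helper3.isCharacter_of_irr hχ
  have hcommN : ∀ a b : ↥N, a * b = b * a := fun a b => Subtype.ext (hab a a.2 b b.2)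
  -- a constituent `θ` of the restriction
  obtain ⟨m, hm, hsum⟩ := char_eq_sum_irr (isCharacter_res N hχch)
  have hχ1 : χ 1 ≠ 0 := Cfsg.Agent.Lib.Helper80.char_one_ne_zero hχ
  obtain ⟨θ, hθ0⟩ : ∃ θ : Cfsg.IrrCharacter ↥N, m θ ≠ 0 := by
    by_contra hcon
    have hall : ∀ ψ, m ψ = 0 := fun ψ => by
      by_contra h
      exact hcon ⟨ψ, h⟩
    have := congrFun hsum 1
    simp only [hall, Nat.cast_zero, zero_smul, Finset.sum_const_zero, Pi.zero_apply] at this
    exact hχ1 this
  have hθ : Cfsg.IsIrrCharacter ↥N (θ : ↥N → ℂ) := θ.2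
  have hθch := Cfsg.Agent.Lib.Helper3.isCharacter_of_irr hθ
  have hcon : Cfsg.classInner (fun n : ↥N => χ n) (θ : ↥N → ℂ) ≠ 0 := by
    rw [hm θ]
    exact Nat.cast_ne_zero.2 hθ0
  have hθ1 : (θ : ↥N → ℂ) 1 = 1 := irr_one_eq_one_of_comm hcommN hθ
  -- the inertia group and the Clifford correspondent
  set T : Subgroup G := inertia N (θ : ↥N → ℂ) with hT
  have hNT : N ≤ T := le_inertia N (Cfsg.Agent.Lib.Helper3.isClassFunction_of_isCharacter hθch)
  haveI : Fintype ↥T := Fintype.ofFinite ↥T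
  obtain ⟨ψ, hψ, hind, hmult⟩ := clifford_correspondence N T hNT hχ hθ (fun g => Iff.rfl) hcon
  have hψch := Cfsg.Agent.Lib.Helper3.isCharacter_of_irr hψ
  have hres := res_eq_smul_of_invariant_le N T hNT hψ hθ (by rw [hmult]; exact hcon)
    (fun t ht => ht)
  set c := Cfsg.classInner (fun n : ↥N => ψ ⟨n, hNT n.2⟩) (θ : ↥N → ℂ) with hc
  have hψ1 : ψ 1 = c := by
    have h1 := congrFun hres 1
    simp only [Pi.smul_apply, smul_eq_mul, hθ1, mul_one] at h1
    exact h1
  -- `N` acts by scalars in `ψ`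
  let lam : ↥(N.subgroupOf T) →* ℂˣ :=
    (Cfsg.Agent.Lib.Helper15.linCharHom hθch hθ1).comp
      (Subgroup.subgroupOfEquivOfLe hNT).toMonoidHom
  have hscal : ∀ a : ↥(N.subgroupOf T), ψ a = (lam a : ℂ) * ψ 1 := by
    intro a
    have h1 := congrFun hres (Subgroup.subgroupOfEquivOfLe hNT a)
    simp only [Pi.smul_apply, smul_eq_mul] at h1
    rw [hψ1, mul_comm]
    exact h1
  have hdvd := charDegree_mul_card_dvd hψ (N.subgroupOf T) lam hscal
  rw [Nat.card_congr (Subgroup.subgroupOfEquivOfLe hNT).toEquiv] at hdvd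
  -- degrees
  have hdeg : Cfsg.charDegree χ = T.index * Cfsg.charDegree ψ := by
    have h1 : χ 1 = (T.index : ℂ) * ψ 1 := by rw [← hind]; exact indFun_one T ψ
    rw [Cfsg.Agent.Lib.Helper80.char_one_eq_charDegree
        (Cfsg.Agent.Lib.Helper80.isCharacter_of_isIrrCharacter hχ),
      Cfsg.Agent.Lib.Helper80.char_one_eq_charDegree
        (Cfsg.Agent.Lib.Helper80.isCharacter_of_isIrrCharacter hψ)] at h1
    exact_mod_cast h1
  have h2 : Cfsg.charDegree χ * Nat.card ↥N ∣ N.index * Nat.card ↥N := by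
    rw [Subgroup.index_mul_card, hdeg, mul_assoc, ← Subgroup.index_mul_card T]
    exact Nat.mul_dvd_mul_left _ hdvd
  exact Nat.dvd_of_mul_dvd_mul_right Nat.card_pos h2

/-- **Itô's theorem**, representation form. -/
theorem ito_finrank_dvd {G : Type u} [Group G] [Finite G] {V : Type v} [AddCommGroup V]
    [Module ℂ V] [FiniteDimensional ℂ V] (ρ : Representation ℂ G V) [ρ.IsIrreducible]
    (N : Subgroup G) [N.Normal] (hab : ∀ a ∈ N, ∀ b ∈ N, a * b = b * a) :
    Module.finrank ℂ V ∣ N.index := by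
  have h := ito_charDegree_dvd (Cfsg.Agent.Lib.Helper80.isIrrCharacter_of_rep ρ) N hab
  have hdeg : Cfsg.charDegree ρ.character = Module.finrank ℂ V := by
    unfold Cfsg.charDegree
    rw [Representation.char_one]
    simp
  rwa [hdeg] at h

end Cfsg.Agent.Lib.Helper82
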