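import Mathlib

set_option autoImplicit false

namespace Cfsg.Agent.Lib.Helper82

/-- Counting lemma for two commuting automorphisms `σ`, `τ` of a finite abelian group `V`,
where `σ ^ n = 1` for some `n` coprime to the order of `V`: the number of pairs `(u, w)` with
`u * σ w = w * τ u` is `|V|` times the number of common fixed points. -/
theorem card_twisted_commuting_pairs {V : Type*} [CommGroup V] [Finite V] (σ τ : V ≃* V)
    (hcomm : ∀ v, σ (τ v) = τ (σ v)) (n : ℕ) (hn : ∀ v, (σ ^ n) v = v)
    (hcop : (Nat.card V).Coprime n) :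
    Nat.card {p : V × V // p.1 * σ p.2 = p.2 * τ p.1} =
      Nat.card V * Nat.card {v : V // σ v = v ∧ τ v = v} := by
  classical
  -- the two commutator maps
  let α : V →* V :=
    { toFun := fun w => σ w * w⁻¹
      map_one' := by simp
      map_mul' := by intro a b; simp only [map_mul, mul_inv_rev]; ac_rfl }
  let β : V →* V :=
    { toFun := fun w => τ w * w⁻¹
      map_one' := by simp
      map_mul' := by intro a b; simp only [map_mul, mul_inv_rev]; ac_rfl }
  have hα : ∀ w, α w = σ w * w⁻¹ := fun _ => rfl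
  have hβ : ∀ w, β w = τ w * w⁻¹ := fun _ => rfl
  have hαβ : ∀ v, α (β v) = β (α v) := by
    intro v
    simp only [hα, hβ, map_mul, map_inv, hcomm, mul_inv_rev, inv_inv]
    ac_rfl
  -- kernel and range of α meet trivially
  have hpow : ∀ (v w : V), σ v = v → σ w = w * v → ∀ k : ℕ, (σ ^ k) w = w * v ^ k := by
    intro v w hv hw k
    induction k with
    | zero => simp
    | succ k ih =>
      rw [pow_succ', MulAut.mul_apply, ih, map_mul, map_pow, hv, hw, pow_succ', mul_assoc]
  have hinter : ∀ v : V, α v = 1 → (∃ w, α w = v) → v = 1 := by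
    intro v hv ⟨w, hw⟩
    have hv' : σ v = v := by
      have : σ v * v⁻¹ = 1 := hv
      exact mul_inv_eq_one.1 this
    have hw' : σ w = w * v := by
      have : σ w * w⁻¹ = v := hw
      rw [← this]; simp [mul_comm]
    have h1 : v ^ n = 1 := by
      have := hpow v w hv' hw' n
      rw [hn] at this
      exact mul_left_cancel (a := w) (by rw [mul_one]; exact this.symm)
    have h2 : v ^ Nat.card V = 1 := pow_card_eq_one'
    have h3 : v ^ Nat.gcd (Nat.card V) n = 1 := pow_gcd_eq_one.2 ⟨h2, h1⟩
    rw [Nat.Coprime] at hcop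
    rw [hcop, pow_one] at h3
    exact h3
  -- sizes
  have hcard : Nat.card α.ker * Nat.card α.range = Nat.card V := by
    rw [← Subgroup.index_ker, Subgroup.card_mul_index]
  -- V = ker α * range α
  have hdecomp : ∀ v : V, ∃ z r : V, α z = 1 ∧ (∃ w, α w = r) ∧ v = z * r := by
    have hinj : Function.Injective (fun p : α.ker × α.range => (p.1 : V) * (p.2 : V)) := by
      rintro ⟨z, r⟩ ⟨z', r'⟩ h
      simp only at h
      have h' : (z' : V)⁻¹ * z = r' * (r : V)⁻¹ := by
        rw [inv_mul_eq_iff_eq_mul, ← mul_assoc, eq_mul_inv_iff_mul_eq]; exact h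
      have hz : α ((z' : V)⁻¹ * z) = 1 := by
        rw [map_mul, map_inv, MonoidHom.mem_ker.1 z.2, MonoidHom.mem_ker.1 z'.2]; simp
      have hr : ∃ w, α w = (z' : V)⁻¹ * z := by
        rw [h']
        obtain ⟨a, ha⟩ := r.2
        obtain ⟨a', ha'⟩ := r'.2
        exact ⟨a' * a⁻¹, by rw [map_mul, map_inv, ha, ha']⟩
      have h1 := hinter _ hz hr
      have hzz : (z : V) = z' := by
        rw [inv_mul_eq_one] at h1; exact h1.symm
      have hrr : (r : V) = r' := by
        rw [h1] at h'
        have := h'.symm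
        rw [mul_inv_eq_one] at this; exact this.symm
      exact Prod.ext (Subtype.ext hzz) (Subtype.ext hrr)
    have hbij := hinj.bijective_of_nat_card_le (by rw [Nat.card_prod, hcard])
    intro v
    obtain ⟨⟨z, r⟩, h⟩ := hbij.2 v
    obtain ⟨w, hw⟩ := r.2
    exact ⟨z, r, MonoidHom.mem_ker.1 z.2, ⟨w, hw⟩, h.symm⟩
  -- choice of preimages
  have hβrange : ∀ r : α.range, ∃ w, α w = β (r : V) := by
    intro r
    obtain ⟨a, ha⟩ := r.2
    exact ⟨β a, by rw [hαβ, ha]⟩
  choose a ha using hβrange
  -- the bijection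
  let Φ : {v : V // σ v = v ∧ τ v = v} × α.range × α.ker → {p : V × V // p.1 * σ p.2 = p.2 * τ p.1} :=
    fun t => ⟨((t.1 : V) * (t.2.1 : V), (t.2.2 : V) * a t.2.1), by
      obtain ⟨c, r, z⟩ := t
      have hz : σ (z : V) = z := by
        have : σ (z : V) * (z : V)⁻¹ = 1 := MonoidHom.mem_ker.1 z.2
        exact mul_inv_eq_one.1 this
      have har : σ (a r) * (a r)⁻¹ = τ (r : V) * (r : V)⁻¹ := ha r
      have har' : σ (a r) = τ (r : V) * (r : V)⁻¹ * a r := by
        rw [← har]; simp
      simp only [map_mul, hz, c.2.2, har']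
      have : (r : V) * (r : V)⁻¹ = 1 := mul_inv_cancel _
      calc (c : V) * (r : V) * ((z : V) * (τ (r : V) * (r : V)⁻¹ * a r))
          = (z : V) * a r * ((c : V) * τ (r : V)) * ((r : V) * (r : V)⁻¹) := by
            simp only [mul_comm, mul_left_comm, mul_assoc]
        _ = (z : V) * a r * ((c : V) * τ (r : V)) := by rw [this, mul_one]⟩
  have hΦ : Function.Bijective Φ := by
    constructor
    · rintro ⟨c, r, z⟩ ⟨c', r', z'⟩ h
      have h1 : (c : V) * (r : V) = (c' : V) * (r' : V) := congrArg (fun p => p.1.1) h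
      have h2 : (z : V) * a r = (z' : V) * a r' := congrArg (fun p => p.1.2) h
      have h' : (c' : V)⁻¹ * c = r' * (r : V)⁻¹ := by
        rw [inv_mul_eq_iff_eq_mul, ← mul_assoc, eq_mul_inv_iff_mul_eq]; exact h1
      have hc : α ((c' : V)⁻¹ * c) = 1 := by
        rw [map_mul, map_inv, hα, hα, c.2.1, c'.2.1]; simp
      have hr : ∃ w, α w = (c' : V)⁻¹ * c := by
        rw [h']
        obtain ⟨b, hb⟩ := r.2
        obtain ⟨b', hb'⟩ := r'.2
        exact ⟨b' * b⁻¹, by rw [map_mul, map_inv, hb, hb']⟩
      have h3 := hinter _ hc hr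
      have hcc : (c : V) = c' := by
        rw [inv_mul_eq_one] at h3; exact h3.symm
      have hrr : (r : V) = r' := by
        rw [h3] at h'
        have := h'.symm
        rw [mul_inv_eq_one] at this; exact this.symm
      have hr2 : r = r' := Subtype.ext hrr
      subst hr2
      have hzz : (z : V) = z' := mul_right_cancel h2
      exact Prod.ext (Subtype.ext hcc) (Prod.ext rfl (Subtype.ext hzz))
    · rintro ⟨⟨u, w⟩, huw⟩
      simp only at huw
      have hK : α w = β u := by
        rw [hα, hβ, mul_inv_eq_iff_eq_mul, mul_assoc, mul_comm u⁻¹, ← mul_assoc, eq_mul_inv_iff_mul_eq,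
          mul_comm, huw, mul_comm]
      obtain ⟨z₀, r₀, hz₀, hr₀, hu⟩ := hdecomp u
      have hβz : β z₀ = 1 := by
        apply hinter
        · rw [hαβ, hz₀, map_one]
        · have : β z₀ = α w * (β r₀)⁻¹ := by
            rw [hK, hu, map_mul]; simp
          rw [this]
          obtain ⟨b, hb⟩ := hr₀
          exact ⟨w * (β b)⁻¹, by rw [map_mul, map_inv, hαβ, hb]⟩
      have hσz : σ z₀ = z₀ := by
        have : σ z₀ * z₀⁻¹ = 1 := hz₀
        exact mul_inv_eq_one.1 this
      have hτz : τ z₀ = z₀ := by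
        have : τ z₀ * z₀⁻¹ = 1 := hβz
        exact mul_inv_eq_one.1 this
      let r : α.range := ⟨r₀, hr₀⟩
      have hz : α (w * (a r)⁻¹) = 1 := by
        rw [map_mul, map_inv, ha r, hK, hu, map_mul, hβz]; simp [r]
      refine ⟨(⟨z₀, hσz, hτz⟩, r, ⟨w * (a r)⁻¹, MonoidHom.mem_ker.2 hz⟩), ?_⟩
      apply Subtype.ext
      simp only [Φ]
      rw [Prod.mk.injEq]
      exact ⟨hu.symm, by simp [r]⟩
  rw [← Nat.card_eq_of_bijective Φ hΦ, Nat.card_prod, Nat.card_prod, ← hcard]
  ring

/-- Version of `card_twisted_commuting_pairs` for a group with an explicit commutativity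
hypothesis. -/
theorem card_twisted_commuting_pairs' {V : Type*} [Group V] [Finite V] (hab : ∀ a b : V, a * b = b * a)
    (σ τ : V ≃* V)
    (hcomm : ∀ v, σ (τ v) = τ (σ v)) (n : ℕ) (hn : ∀ v, (σ ^ n) v = v)
    (hcop : (Nat.card V).Coprime n) :
    Nat.card {p : V × V // p.1 * σ p.2 = p.2 * τ p.1} =
      Nat.card V * Nat.card {v : V // σ v = v ∧ τ v = v} := by
  let _ : CommGroup V := { ‹Group V› with mul_comm := hab }
  exact card_twisted_commuting_pairs σ τ hcomm n hn hcop

/-- A multiplicative equivalence induces an equality of class numbers. -/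
theorem card_conjClasses_congr {A B : Type*} [Group A] [Group B] (e : A ≃* B) :
    Nat.card (ConjClasses A) = Nat.card (ConjClasses B) := by
  refine Nat.card_congr
    { toFun := ConjClasses.map e.toMonoidHom
      invFun := ConjClasses.map e.symm.toMonoidHom
      left_inv := ?_
      right_inv := ?_ }
  · intro c
    obtain ⟨a, rfl⟩ := ConjClasses.mk_surjective c
    show ConjClasses.mk (e.symm (e a)) = ConjClasses.mk a
    simp
  · intro c
    obtain ⟨a, rfl⟩ := ConjClasses.mk_surjective c
    show ConjClasses.mk (e (e.symm a)) = ConjClasses.mk a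
    simp

end Cfsg.Agent.Lib.Helper82
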