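import Mathlib
import Cfsg.Prelude.Def_Characters
import Cfsg.Agent.Lib.Helper75.CliffordCorr2

set_option autoImplicit false
set_option linter.unusedSectionVars false
set_option linter.style.haveILetI false

/-!
Clifford correspondence: irreducibility of the induced character and injectivity.
-/

namespace Cfsg.Agent.Lib.Helper82

open Cfsg.Agent.Lib.Helper3 Cfsg.Agent.Lib.Helper75
open scoped ComplexConjugate

universe u

variable {G : Type u} [Group G] (N : Subgroup G) [hN : N.Normal] [Fintype N]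
  (T : Subgroup G) [Fintype T] (hNT : N ≤ T) [Fintype G]

/-- Let `T` be the inertia group of `θ ∈ Irr(N)`, `χ ∈ Irr(G)`, and `ψ ∈ Irr(T)` over `θ` with
`⟨ψ^G, χ⟩ ≠ 0`.  Then `ψ^G = χ` and `ψ` is the unique such character of `T`. -/
theorem clifford_unique {χ : G → ℂ} (hχ : Cfsg.IsIrrCharacter G χ) {θ : N → ℂ}
    (hθ : Cfsg.IsIrrCharacter N θ) (hT : ∀ g : G, g ∈ T ↔ conjChar N θ g = θ)
    {ψ : T → ℂ} (hψ : Cfsg.IsIrrCharacter T ψ)
    (hψθ : Cfsg.classInner (fun n : N => ψ ⟨n, hNT n.2⟩) θ ≠ 0)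
    (hψχ : Cfsg.classInner (Cfsg.indFun T ψ) χ ≠ 0) :
    Cfsg.indFun T ψ = χ ∧ ∀ ψ' : T → ℂ, Cfsg.IsIrrCharacter T ψ' →
      Cfsg.classInner (fun n : N => ψ' ⟨n, hNT n.2⟩) θ ≠ 0 →
      Cfsg.classInner (Cfsg.indFun T ψ') χ ≠ 0 → ψ' = ψ := by
  classical
  haveI : Fintype (Cfsg.IrrCharacter T) := Fintype.ofFinite _
  haveI : Fintype (Cfsg.IrrCharacter G) := Fintype.ofFinite _
  have hχc := isCharacter_of_irr hχ
  obtain ⟨a, ha, hsum⟩ := char_eq_sum_irr (isCharacter_res T hχc)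
  have hf : ∀ ψ : Cfsg.IrrCharacter T, ∃ f : ℕ,
      Cfsg.classInner (fun n : N => (ψ : T → ℂ) ⟨n, hNT n.2⟩) θ = f :=
    fun ψ => classInner_char_nat (isCharacter_res_le N T hNT (isCharacter_of_irr ψ.2))
      (isCharacter_of_irr hθ)
  choose f hf using hf
  obtain ⟨e, he⟩ := classInner_char_nat (isCharacter_res N hχc) (isCharacter_of_irr hθ)
  have hres : (fun n : N => χ n) =
      ∑ ψ : Cfsg.IrrCharacter T, (a ψ : ℂ) • (fun n : N => (ψ : T → ℂ) ⟨n, hNT n.2⟩) := by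
    funext n
    have := congrFun hsum ⟨n, hNT n.2⟩
    simp only [Finset.sum_apply, Pi.smul_apply, smul_eq_mul] at this ⊢
    exact this
  have he2 : e = ∑ ψ, a ψ * f ψ := by
    have : (e : ℂ) = ((∑ ψ, a ψ * f ψ : ℕ) : ℂ) := by
      rw [← he, hres, classInner_sum_left]
      push_cast
      refine Finset.sum_congr rfl (fun ψ _ => ?_)
      rw [classInner_smul_left, hf ψ]
    exact_mod_cast this
  -- multiplicities of a character of `T` over `θ` inducing to something containing `χ`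
  have key : ∀ ψ₁ : Cfsg.IrrCharacter T,
      Cfsg.classInner (fun n : N => (ψ₁ : T → ℂ) ⟨n, hNT n.2⟩) θ ≠ 0 →
      Cfsg.classInner (Cfsg.indFun T (ψ₁ : T → ℂ)) χ ≠ 0 → a ψ₁ ≠ 0 ∧ f ψ₁ ≠ 0 := by
    intro ψ₁ h1 h2
    constructor
    · intro h0
      apply h2
      rw [frobenius_reciprocity T (ψ₁ : T → ℂ) (isClassFunction_of_isCharacter hχc),
        classInner_conj_symm, ha ψ₁, h0]
      simp
    · intro h0
      apply h1
      rw [hf ψ₁, h0]
      simp
  set ψ₀ : Cfsg.IrrCharacter T := ⟨ψ, hψ⟩ with hψ₀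
  obtain ⟨ha0, hf0⟩ := key ψ₀ hψθ hψχ
  have hfe : f ψ₀ ≤ e := by
    rw [he2]
    calc f ψ₀ ≤ a ψ₀ * f ψ₀ := Nat.le_mul_of_pos_left _ (Nat.pos_of_ne_zero ha0)
      _ ≤ ∑ ψ, a ψ * f ψ := Finset.single_le_sum (f := fun ψ => a ψ * f ψ)
          (fun _ _ => Nat.zero_le _) (Finset.mem_univ ψ₀)
  have he0 : e ≠ 0 := by
    have := Nat.pos_of_ne_zero hf0
    omega
  have h : Cfsg.classInner (fun n : N => χ n) θ ≠ 0 := by
    rw [he]
    exact_mod_cast he0
  have hψN := res_eq_smul_of_invariant_le N T hNT hψ hθ hψθ (fun t ht => (hT t).1 ht)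
  have hψ1 : ψ 1 = (f ψ₀ : ℂ) * θ 1 := by
    have := congrFun hψN 1
    rw [show Cfsg.classInner (fun n : N => ψ ⟨n, hNT n.2⟩) θ = f ψ₀ from hf ψ₀] at this
    simp only [Pi.smul_apply, smul_eq_mul] at this
    exact this
  have hin : inertia N θ = T := by
    ext g
    rw [mem_inertia_iff, hT]
  have hχ1 : χ 1 = (e : ℂ) * (T.index : ℂ) * θ 1 := by
    rw [res_one_eq N hχ hθ h, he, card_constit_eq_index_inertia N hχ hθ h, hin]
  have hI : Cfsg.IsCharacter G (Cfsg.indFun T ψ) :=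
    isCharacter_indFun T (isCharacter_of_irr hψ)
  have hI1 : Cfsg.indFun T ψ 1 = (T.index : ℂ) * ((f ψ₀ : ℂ) * θ 1) := by
    rw [indFun_one, hψ1]
  have hθ1 := Helper80.char_one_eq_charDegree (isCharacter_of_irr hθ)
  have hdeg : Cfsg.charDegree (Cfsg.indFun T ψ) ≤ Cfsg.charDegree χ := by
    have h1 : Cfsg.charDegree (Cfsg.indFun T ψ) = T.index * (f ψ₀ * Cfsg.charDegree θ) := by
      have := Helper80.char_one_eq_charDegree hI
      rw [hI1, hθ1] at this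
      exact_mod_cast this.symm
    have h2 : Cfsg.charDegree χ = e * T.index * Cfsg.charDegree θ := by
      have := Helper80.char_one_eq_charDegree hχc
      rw [hχ1, hθ1] at this
      exact_mod_cast this.symm
    rw [h1, h2]
    calc T.index * (f ψ₀ * Cfsg.charDegree θ) = f ψ₀ * (T.index * Cfsg.charDegree θ) := by ring
      _ ≤ e * (T.index * Cfsg.charDegree θ) := Nat.mul_le_mul_right _ hfe
      _ = e * T.index * Cfsg.charDegree θ := by ring
  have heq := Helper80.eq_of_constituent_of_degree_le hI hχ hψχ hdeg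
  have hfe' : f ψ₀ = e := by
    have h3 : (T.index : ℂ) * ((f ψ₀ : ℂ) * θ 1) = (e : ℂ) * (T.index : ℂ) * θ 1 := by
      rw [← hI1, heq, hχ1]
    have hθ10 : θ 1 ≠ 0 := Helper80.char_one_ne_zero hθ
    have hT0 : (T.index : ℂ) ≠ 0 := by
      exact_mod_cast (Subgroup.index_ne_zero_of_finite (H := T))
    have h4 : (T.index : ℂ) * θ 1 * (f ψ₀ : ℂ) = (T.index : ℂ) * θ 1 * e := by
      linear_combination h3
    exact_mod_cast mul_left_cancel₀ (mul_ne_zero hT0 hθ10) h4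
  refine ⟨heq, ?_⟩
  intro ψ' hψ' h1 h2
  by_contra hne
  set ψ₁ : Cfsg.IrrCharacter T := ⟨ψ', hψ'⟩ with hψ₁
  obtain ⟨ha1, hf1⟩ := key ψ₁ h1 h2
  have hne' : ψ₀ ≠ ψ₁ := by
    intro h
    apply hne
    have := congrArg (fun x : Cfsg.IrrCharacter T => (x : T → ℂ)) h
    exact this.symm
  have hle : a ψ₀ * f ψ₀ + a ψ₁ * f ψ₁ ≤ e := by
    rw [he2, ← Finset.sum_pair (f := fun ψ => a ψ * f ψ) hne']
    exact Finset.sum_le_sum_of_subset (Finset.subset_univ _)
  have h5 : f ψ₀ ≤ a ψ₀ * f ψ₀ := Nat.le_mul_of_pos_left _ (Nat.pos_of_ne_zero ha0)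
  have h6 : 0 < a ψ₁ * f ψ₁ := Nat.mul_pos (Nat.pos_of_ne_zero ha1) (Nat.pos_of_ne_zero hf1)
  omega

/-- **Clifford correspondence** (irreducibility): inducing an irreducible character of the
inertia group lying over `θ` gives an irreducible character. -/
theorem clifford_induced_irr {θ : N → ℂ}
    (hθ : Cfsg.IsIrrCharacter N θ) (hT : ∀ g : G, g ∈ T ↔ conjChar N θ g = θ)
    {ψ : T → ℂ} (hψ : Cfsg.IsIrrCharacter T ψ)
    (hψθ : Cfsg.classInner (fun n : N => ψ ⟨n, hNT n.2⟩) θ ≠ 0) :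
    Cfsg.IsIrrCharacter G (Cfsg.indFun T ψ) := by
  classical
  haveI : Fintype (Cfsg.IrrCharacter G) := Fintype.ofFinite _
  have hI : Cfsg.IsCharacter G (Cfsg.indFun T ψ) :=
    isCharacter_indFun T (isCharacter_of_irr hψ)
  obtain ⟨m, hm, hsum⟩ := char_eq_sum_irr hI
  have hex : ∃ χ : Cfsg.IrrCharacter G, m χ ≠ 0 := by
    by_contra hcon
    push Not at hcon
    have h0 : Cfsg.indFun T ψ 1 = 0 := by
      rw [hsum]
      simp [hcon]
    rw [indFun_one] at h0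
    have hT0 : (T.index : ℂ) ≠ 0 := by
      exact_mod_cast (Subgroup.index_ne_zero_of_finite (H := T))
    exact (mul_ne_zero hT0 (Helper80.char_one_ne_zero hψ)) h0
  obtain ⟨χ, hχm⟩ := hex
  have hne : Cfsg.classInner (Cfsg.indFun T ψ) (χ : G → ℂ) ≠ 0 := by
    rw [hm χ]
    exact_mod_cast hχm
  rw [(clifford_unique N T hNT χ.2 hθ hT hψ hψθ hne).1]
  exact χ.2

/-- **Clifford correspondence** (injectivity). -/
theorem clifford_induced_inj {θ : N → ℂ}
    (hθ : Cfsg.IsIrrCharacter N θ) (hT : ∀ g : G, g ∈ T ↔ conjChar N θ g = θ)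
    {ψ ψ' : T → ℂ} (hψ : Cfsg.IsIrrCharacter T ψ) (hψ' : Cfsg.IsIrrCharacter T ψ')
    (hψθ : Cfsg.classInner (fun n : N => ψ ⟨n, hNT n.2⟩) θ ≠ 0)
    (hψ'θ : Cfsg.classInner (fun n : N => ψ' ⟨n, hNT n.2⟩) θ ≠ 0)
    (h : Cfsg.indFun T ψ = Cfsg.indFun T ψ') : ψ = ψ' := by
  have hirr := clifford_induced_irr N T hNT hθ hT hψ' hψ'θ
  have h1 : Cfsg.classInner (Cfsg.indFun T ψ') (Cfsg.indFun T ψ') ≠ 0 := by
    rw [Helper80.classInner_self hirr]
    exact one_ne_zero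
  have h2 : Cfsg.classInner (Cfsg.indFun T ψ) (Cfsg.indFun T ψ') ≠ 0 := by
    rw [h]
    exact h1
  exact (clifford_unique N T hNT hirr hθ hT hψ' hψ'θ h1).2 ψ hψ hψθ h2

/-- the multiplicity of `θ` in `ψ_N`, in terms of induction from `N` to `T` -/
theorem classInner_ind_subgroupOf (θ : N → ℂ) {ψ : T → ℂ} (hψ : Cfsg.IsClassFunction T ψ) :
    Cfsg.classInner (Cfsg.indFun (N.subgroupOf T)
      (fun x : N.subgroupOf T => θ ⟨(x : T), Subgroup.mem_subgroupOf.mp x.2⟩)) ψ =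
    conj (Cfsg.classInner (fun n : N => ψ ⟨n, hNT n.2⟩) θ) := by
  haveI : Fintype (N.subgroupOf T) := Fintype.ofFinite _
  rw [frobenius_reciprocity (N.subgroupOf T) _ hψ, classInner_conj_symm]
  congr 1
  exact classInner_subgroupOf N T hNT ψ θ

end Cfsg.Agent.Lib.Helper82
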