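import Mathlib
import Cfsg.Prelude.Def_Characters

set_option autoImplicit false
set_option linter.style.haveILetI false

/-!
Elementary groups (`Cfsg.IsElementary`): cyclic groups are elementary, elementary groups are
nilpotent, subgroups of elementary groups are elementary.
-/

namespace Cfsg.Agent.Lib.Helper82

/-- a finite cyclic group is elementary for every prime -/
theorem isElementary_of_isCyclic {A : Type*} [Group A] [Finite A] [IsCyclic A] (p : ℕ)
    (hp : p.Prime) : Cfsg.IsElementary p A := by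
  obtain ⟨g, hg⟩ := IsCyclic.exists_generator (α := A)
  obtain ⟨k, m, hm, ho⟩ := Nat.exists_eq_pow_mul_and_not_dvd (orderOf_pos g).ne' p hp.ne_one
  have hpk : 0 < p ^ k := pow_pos hp.pos k
  have hmpos : 0 < m := Nat.pos_of_ne_zero (fun h => hm (h ▸ dvd_zero p))
  have hord : orderOf (g ^ (p ^ k)) = m := by
    rw [orderOf_pow' g hpk.ne', ho, Nat.gcd_eq_right (dvd_mul_right _ _),
      Nat.mul_div_cancel_left m hpk]
  refine ⟨g ^ (p ^ k), ?_, ?_, k, ?_⟩
  · rw [Subgroup.mem_center_iff]
    intro a
    obtain ⟨i, rfl⟩ := Subgroup.mem_zpowers_iff.1 (hg a)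
    exact (((Commute.refl g).pow_right _).zpow_left i).eq
  · rw [hord]
    exact Nat.Coprime.symm ((Nat.Prime.coprime_iff_not_dvd hp).2 hm)
  · have h1 := Subgroup.card_mul_index (Subgroup.zpowers (g ^ (p ^ k)))
    rw [Nat.card_zpowers, hord, ← orderOf_eq_card_of_forall_mem_zpowers hg, ho] at h1
    exact Nat.eq_of_mul_eq_mul_left hmpos (by rw [h1, mul_comm])

/-- an elementary group is nilpotent -/
theorem isNilpotent_of_isElementary {E : Type*} [Group E] [Finite E] {p : ℕ} (hp : p.Prime)
    (h : Cfsg.IsElementary p E) : Group.IsNilpotent E := by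
  haveI : Fact p.Prime := ⟨hp⟩
  obtain ⟨x, hx, -, k, hk⟩ := h
  have hZc : Subgroup.zpowers x ≤ Subgroup.center E := Subgroup.zpowers_le.2 hx
  haveI : (Subgroup.zpowers x).Normal := ⟨fun n hn g => by
    have := Subgroup.mem_center_iff.1 (hZc hn) g
    rw [this, mul_inv_cancel_right]
    exact hn⟩
  have hP : IsPGroup p (E ⧸ Subgroup.zpowers x) :=
    IsPGroup.of_card (n := k) (by rw [← Subgroup.index_eq_card, hk])
  haveI := hP.isNilpotent
  apply Subgroup.isNilpotent_of_ker_le_center (QuotientGroup.mk' (Subgroup.zpowers x))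
  rw [QuotientGroup.ker_mk']
  exact hZc

/-- a subgroup of an elementary group is elementary -/
theorem isElementary_subgroup {E : Type*} [Group E] [Finite E] {p : ℕ} (hp : p.Prime)
    (h : Cfsg.IsElementary p E) (F : Subgroup E) : Cfsg.IsElementary p F := by
  obtain ⟨x, hx, hcop, k, hk⟩ := h
  set Z : Subgroup E := Subgroup.zpowers x with hZ
  have hZc : Z ≤ Subgroup.center E := Subgroup.zpowers_le.2 hx
  haveI : Z.Normal := ⟨fun n hn g => by
    have := Subgroup.mem_center_iff.1 (hZc hn) g
    rw [this, mul_inv_cancel_right]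
    exact hn⟩
  set Z' : Subgroup F := Z.subgroupOf F with hZ'
  haveI : IsCyclic Z := Subgroup.isCyclic_zpowers x
  let f : Z' →* Z :=
    { toFun := fun z => ⟨((z : F) : E), Subgroup.mem_subgroupOf.1 z.2⟩
      map_one' := rfl
      map_mul' := fun _ _ => rfl }
  have hf : Function.Injective f := by
    intro a b hab
    apply Subtype.ext
    apply Subtype.ext
    exact congrArg (fun z : Z => (z : E)) hab
  haveI : IsCyclic Z' := isCyclic_of_injective f hf
  obtain ⟨y, hy⟩ := IsCyclic.exists_generator (α := Z')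
  have hzp : Subgroup.zpowers (y : F) = Z' := by
    apply le_antisymm
    · exact Subgroup.zpowers_le.2 y.2
    · intro z hz
      obtain ⟨i, hi⟩ := Subgroup.mem_zpowers_iff.1 (hy ⟨z, hz⟩)
      rw [Subgroup.mem_zpowers_iff]
      refine ⟨i, ?_⟩
      have := congrArg (fun w : Z' => (w : F)) hi
      simpa using this
  have hyZ : ((y : F) : E) ∈ Z := Subgroup.mem_subgroupOf.1 y.2
  refine ⟨(y : F), ?_, ?_, ?_⟩
  · rw [Subgroup.mem_center_iff]
    intro g
    apply Subtype.ext
    exact Subgroup.mem_center_iff.1 (hZc hyZ) (g : E)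
  · have h1 : orderOf (y : F) ∣ orderOf x := by
      rw [← Subgroup.orderOf_coe]
      exact orderOf_dvd_of_mem_zpowers hyZ
    exact Nat.Coprime.coprime_dvd_left h1 hcop
  · rw [hzp]
    have h1 : Z'.index ∣ Z.index := Subgroup.relIndex_dvd_index_of_normal Z F
    rw [hk] at h1
    obtain ⟨j, -, hj⟩ := (Nat.dvd_prime_pow hp).1 h1
    exact ⟨j, hj⟩

end Cfsg.Agent.Lib.Helper82
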