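import Mathlib

/-!
Arithmetic certificate for S2490 (order 7920 with a disconnected prime graph):
a decidable list of numerical constraints on Sylow normalizers/centralizers and on the
orders of normal subgroups, and the kernel-checked statement that they force every
normal subgroup to have order 1, 3960 or 7920.
-/

set_option autoImplicit false

namespace Cfsg.Agent.Lib.Helper82.PG

/-- The divisors of 7920. -/
def divs : List ℕ := [1, 2, 3, 4, 5, 6, 8, 9, 10, 11, 12, 15, 16, 18, 20, 22, 24, 30, 33, 36, 40, 44, 45, 48, 55, 60, 66, 72, 80, 88, 90, 99, 110, 120, 132, 144, 165, 176, 180, 198, 220, 240, 264, 330, 360, 396, 440, 495, 528, 660, 720, 792, 880, 990, 1320, 1584, 1980, 2640, 3960, 7920]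

def cand11 : List (ℕ × ℕ) := [(55, 11), (55, 55), (176, 88), (176, 176), (660, 66), (660, 132), (660, 330), (660, 660), (7920, 792), (7920, 1584), (7920, 3960), (7920, 7920)]

def cand5 : List (ℕ × ℕ) := [(20, 5), (20, 10), (20, 20), (45, 45), (120, 30), (120, 60), (120, 120), (220, 55), (220, 110), (220, 220), (495, 495), (720, 180), (720, 360), (720, 720), (1320, 330), (1320, 660), (1320, 1320), (7920, 1980), (7920, 3960), (7920, 7920)]

def cand3 : List (ℕ × ℕ) := [(9, 9), (36, 9), (36, 18), (36, 36), (90, 9), (90, 18), (90, 45), (90, 90), (144, 9), (144, 18), (144, 36), (144, 72), (144, 144), (198, 9), (198, 18), (198, 99), (198, 198), (360, 9), (360, 18), (360, 36), (360, 45), (360, 72), (360, 90), (360, 180), (360, 360), (495, 9), (495, 45), (495, 99), (495, 495), (792, 9), (792, 18), (792, 36), (792, 72), (792, 99), (792, 198), (792, 396), (792, 792), (1980, 9), (1980, 18), (1980, 36), (1980, 45), (1980, 90), (1980, 99), (1980, 180), (1980,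 198), (1980, 396), (1980, 495), (1980, 990), (1980, 1980), (7920, 9), (7920, 18), (7920, 36), (7920, 45), (7920, 72), (7920, 90), (7920, 99), (7920, 144), (7920, 180), (7920, 198), (7920, 360), (7920, 396), (7920, 495), (7920, 720), (7920, 792), (7920, 990), (7920, 1584), (7920, 1980), (7920, 3960), (7920, 7920)]

def primes4 : List ℕ := [2, 3, 5, 11]

def odd3 : List ℕ := [11, 5, 3]

def PPf (p : ℕ) : ℕ := if p = 2 then 16 else if p = 3 then 9 else p

def colf (c2 c3 c5 c11 : Bool) (p : ℕ) : Bool :=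
  if p = 2 then c2 else if p = 3 then c3 else if p = 5 then c5 else c11

def parf (x y w : ℕ × ℕ) (p : ℕ) : ℕ × ℕ := if p = 11 then x else if p = 5 then y else w

def F4 (col : ℕ → Bool) (p k : ℕ) : Prop :=
  ∀ r ∈ primes4, r ≠ p → col p ≠ col r → k % r ≠ 0

instance decF4 (col : ℕ → Bool) (p k : ℕ) : Decidable (F4 col p k) := by
  delta F4; infer_instance

def Base (col : ℕ → Bool) (par : ℕ → ℕ × ℕ) (d : ℕ) : Prop :=
  (∀ p ∈ primes4, ∀ q ∈ primes4, p ≠ q → d % q ≠ 0 → col p ≠ col q →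
      (Nat.gcd d (PPf p) - 1) % PPf q = 0) ∧
  (∀ p ∈ odd3, d % PPf p = 0 →
      (par p).1 % (7920 / d) = 0 ∧ d % ((par p).1 / (7920 / d)) = 0) ∧
  (d = 16 → (par 11).2 % 16 = 0)

instance decBase (col : ℕ → Bool) (par : ℕ → ℕ × ℕ) (d : ℕ) : Decidable (Base col par d) := by
  delta Base; infer_instance

def Good1 (col : ℕ → Bool) (par : ℕ → ℕ × ℕ) (d : ℕ) : Prop :=
  Base col par d ∧ ∀ p ∈ odd3, d % PPf p = 0 → (par p).1 = 7920 / d * PPf p →
    Base col par (d / PPf p)

instance decGood1 (col : ℕ → Bool) (par : ℕ → ℕ × ℕ) (d : ℕ) : Decidable (Good1 col par d) := by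
  delta Good1; infer_instance

def Good2 (col : ℕ → Bool) (par : ℕ → ℕ × ℕ) (d : ℕ) : Prop :=
  Base col par d ∧ ∀ p ∈ odd3, d % PPf p = 0 → (par p).1 = 7920 / d * PPf p →
    Good1 col par (d / PPf p)

instance decGood2 (col : ℕ → Bool) (par : ℕ → ℕ × ℕ) (d : ℕ) : Decidable (Good2 col par d) := by
  delta Good2; infer_instance

def Glob (col : ℕ → Bool) (par : ℕ → ℕ × ℕ) : Prop :=
  F4 col 11 (par 11).2 ∧ F4 col 5 (par 5).2 ∧ F4 col 3 (par 3).2 ∧
  (∀ p ∈ odd3, ∀ r ∈ primes4, r ≠ p → col p ≠ col r →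
      (PPf p - 1) % Nat.gcd (par p).1 (PPf r) = 0) ∧
  (∀ p ∈ odd3, (par p).2 = (par p).1 → Good2 col par (7920 / PPf p)) ∧
  (∀ p ∈ odd3, (par p).1 = 7920 → Good2 col par (PPf p) ∧ Good2 col par (par p).2) ∧
  Good2 col par 7920 ∧ Good2 col par 1

instance decGlob (col : ℕ → Bool) (par : ℕ → ℕ × ℕ) : Decidable (Glob col par) := by
  delta Glob; infer_instance

set_option maxRecDepth 100000 in
/-- The certificate. -/
theorem cert : ∀ c2 c3 c5 c11 : Bool, ¬ (c2 = c3 ∧ c3 = c5 ∧ c5 = c11) →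
    ∀ x ∈ cand11, F4 (colf c2 c3 c5 c11) 11 x.2 →
    ∀ y ∈ cand5, F4 (colf c2 c3 c5 c11) 5 y.2 →
    ∀ w ∈ cand3, Glob (colf c2 c3 c5 c11) (parf x y w) →
      (∀ d ∈ divs, Good2 (colf c2 c3 c5 c11) (parf x y w) d → d = 1 ∨ d = 3960 ∨ d = 7920) ∧
      (Good2 (colf c2 c3 c5 c11) (parf x y w) 3960 → (x.1 = 176 ∧ x.2 = 88) ∨ x.1 = 660) := by
  decide +kernel

end Cfsg.Agent.Lib.Helper82.PG
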