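import Mathlib

/-!
Finite 2-groups whose commutator subgroup has index four (Taussky): abelian subgroups of index
two, the commutator subgroup as the image of a twisted difference map, and the existence of a
cyclic subgroup of index two.
-/

set_option autoImplicit false

namespace Cfsg.Agent.Lib.Helper82.TM

open Classical
open scoped commutatorElement

section AB

variable {Q : Type*} [Group Q]

/-- the homomorphism `c ↦ c⁻¹ (x c x⁻¹)` on an abelian normal subgroup -/
noncomputable def beta (C : Subgroup Q) (hab : ∀ a ∈ C, ∀ b ∈ C, a * b = b * a) (hn : C.Normal)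
    (x : Q) : ↥C →* Q where
  toFun c := (c : Q)⁻¹ * (x * c * x⁻¹)
  map_one' := by simp
  map_mul' a b := by
    have h1 : x * (a : Q) * x⁻¹ ∈ C := hn.conj_mem _ a.2 x
    have e1 : x * ((a : Q) * b) * x⁻¹ = (x * a * x⁻¹) * (x * b * x⁻¹) := by group
    show ((a * b : ↥C) : Q)⁻¹ * (x * ((a * b : ↥C) : Q) * x⁻¹) = _
    rw [Subgroup.coe_mul, e1, mul_inv_rev]
    have c1 : (b : Q)⁻¹ * (a : Q)⁻¹ = (a : Q)⁻¹ * (b : Q)⁻¹ :=
      hab _ (inv_mem b.2) _ (inv_mem a.2)
    have c2 : (b : Q)⁻¹ * (x * a * x⁻¹) = (x * a * x⁻¹) * (b : Q)⁻¹ :=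
      hab _ (inv_mem b.2) _ h1
    calc (b : Q)⁻¹ * (a : Q)⁻¹ * ((x * a * x⁻¹) * (x * b * x⁻¹))
        = (a : Q)⁻¹ * ((b : Q)⁻¹ * (x * a * x⁻¹)) * (x * b * x⁻¹) := by rw [c1]; group
      _ = (a : Q)⁻¹ * (x * a * x⁻¹) * ((b : Q)⁻¹ * (x * b * x⁻¹)) := by rw [c2]; group

theorem beta_apply (C : Subgroup Q) (hab : ∀ a ∈ C, ∀ b ∈ C, a * b = b * a) (hn : C.Normal)
    (x : Q) (c : ↥C) : beta C hab hn x c = (c : Q)⁻¹ * (x * c * x⁻¹) := rfl

theorem range_beta (C : Subgroup Q) (hab : ∀ a ∈ C, ∀ b ∈ C, a * b = b * a) (hn : C.Normal)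
    (x : Q) (hidx : C.index = 2) (hx : x ∉ C) :
    (beta C hab hn x).range = commutator Q := by
  apply le_antisymm
  · rintro _ ⟨c, rfl⟩
    rw [beta_apply, commutator_def]
    have : (c : Q)⁻¹ * (x * c * x⁻¹) = ⁅(c : Q)⁻¹, x⁆ := by
      rw [commutatorElement_def]; group
    rw [this]
    exact Subgroup.commutator_mem_commutator (Subgroup.mem_top _) (Subgroup.mem_top _)
  · rw [commutator_def, Subgroup.commutator_le]
    -- a key membership
    have hb : ∀ a : Q, a ∈ C → a * (x * a⁻¹ * x⁻¹) ∈ (beta C hab hn x).range := by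
      intro a ha
      refine ⟨⟨a⁻¹, inv_mem ha⟩, ?_⟩
      rw [beta_apply]
      simp
    have hxi : x⁻¹ ∉ C := fun h => hx (by simpa using inv_mem h)
    have hdec : ∀ p : Q, p ∉ C → p * x⁻¹ ∈ C := by
      intro p hp
      rw [Subgroup.mul_mem_iff_of_index_two hidx]
      exact ⟨fun h => absurd h hp, fun h => absurd h hxi⟩
    -- case a ∈ C, q = d x
    have hcase : ∀ a ∈ C, ∀ d ∈ C, ⁅a, d * x⁆ ∈ (beta C hab hn x).range := by
      intro a ha d hd
      have h1 : x * a⁻¹ * x⁻¹ ∈ C := hn.conj_mem _ (inv_mem ha) x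
      have : ⁅a, d * x⁆ = a * (x * a⁻¹ * x⁻¹) := by
        rw [commutatorElement_def]
        have c1 : d * (x * a⁻¹ * x⁻¹) = (x * a⁻¹ * x⁻¹) * d := hab _ hd _ h1
        calc a * (d * x) * a⁻¹ * (d * x)⁻¹ = a * (d * (x * a⁻¹ * x⁻¹)) * d⁻¹ := by group
          _ = a * (x * a⁻¹ * x⁻¹) := by rw [c1]; group
      rw [this]
      exact hb a ha
    intro p _ q _
    by_cases hp : p ∈ C
    · by_cases hq : q ∈ C
      · have : ⁅p, q⁆ = 1 := by
          rw [commutatorElement_def, hab p hp q hq]; group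
        rw [this]; exact one_mem _
      · have hq' := hdec q hq
        have : q = (q * x⁻¹) * x := by group
        rw [this]
        exact hcase p hp _ hq'
    · have hp' := hdec p hp
      by_cases hq : q ∈ C
      · have h1 : ⁅p, q⁆ = ⁅q, (p * x⁻¹) * x⁆⁻¹ := by
          rw [commutatorElement_inv]
          congr 1
          group
        rw [h1]
        exact inv_mem (hcase q hq _ hp')
      · have hq' := hdec q hq
        set c := p * x⁻¹ with hc
        set d := q * x⁻¹ with hd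
        have hpe : p = c * x := by rw [hc]; group
        have hqe : q = d * x := by rw [hd]; group
        have h1 : x * c⁻¹ * x⁻¹ ∈ C := hn.conj_mem _ (inv_mem hp') x
        have h2 : x * d * x⁻¹ ∈ C := hn.conj_mem _ hq' x
        have : ⁅p, q⁆ = (c * (x * c⁻¹ * x⁻¹)) * ((d⁻¹ * (x * d * x⁻¹))) := by
          rw [commutatorElement_def, hpe, hqe]
          have c1 : (x * d * x⁻¹) * (x * c⁻¹ * x⁻¹) = (x * c⁻¹ * x⁻¹) * (x * d * x⁻¹) :=
            hab _ h2 _ h1
          have c2 : (x * d * x⁻¹) * d⁻¹ = d⁻¹ * (x * d * x⁻¹) := hab _ h2 _ (inv_mem hq')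
          calc c * x * (d * x) * (c * x)⁻¹ * (d * x)⁻¹
              = c * ((x * d * x⁻¹) * (x * c⁻¹ * x⁻¹)) * d⁻¹ := by group
            _ = c * (x * c⁻¹ * x⁻¹) * ((x * d * x⁻¹) * d⁻¹) := by rw [c1]; group
            _ = _ := by rw [c2]
        rw [this]
        refine mul_mem (hb c hp') ?_
        exact ⟨⟨d, hq'⟩, rfl⟩

theorem index_comm [Finite Q] (C : Subgroup Q) (hab : ∀ a ∈ C, ∀ b ∈ C, a * b = b * a)
    (hn : C.Normal) (x : Q) (hidx : C.index = 2) (hx : x ∉ C) :
    (commutator Q).index = 2 * Nat.card (beta C hab hn x).ker := by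
  rw [← range_beta C hab hn x hidx hx]
  have h1 := Subgroup.index_ker (beta C hab hn x)
  have h2 := Subgroup.card_mul_index (beta C hab hn x).ker
  have h3 := Subgroup.card_mul_index C
  have h4 := Subgroup.card_mul_index (beta C hab hn x).range
  rw [hidx] at h3
  rw [h1] at h2
  have hpos : 0 < Nat.card (beta C hab hn x).range := Nat.card_pos
  have : Nat.card (beta C hab hn x).range * (beta C hab hn x).range.index =
      Nat.card (beta C hab hn x).range * (2 * Nat.card (beta C hab hn x).ker) := by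
    rw [h4, ← h3, ← h2]; ring
  exact Nat.eq_of_mul_eq_mul_left hpos this

end AB

section central

theorem exists_central_involution {Q : Type*} [Group Q] [Finite Q] (hQ : IsPGroup 2 Q)
    (N : Subgroup Q) [N.Normal] (hN : N ≠ ⊥) :
    ∃ z : Q, z ∈ N ∧ z ∈ Subgroup.center Q ∧ orderOf z = 2 := by
  have : Fact (Nat.Prime 2) := ⟨Nat.prime_two⟩
  have hQ' : IsPGroup 2 (ConjAct Q) := hQ.of_equiv ConjAct.toConjAct
  have hNp : IsPGroup 2 ↥N := hQ.to_subgroup N
  have h2 : 2 ∣ Nat.card ↥N := by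
    rcases hNp.card_eq_or_dvd with h | h
    · exact absurd (Subgroup.card_eq_one.1 h) hN
    · exact h
  have h1 : (1 : ↥N) ∈ MulAction.fixedPoints (ConjAct Q) ↥N := fun g => smul_one g
  obtain ⟨b, hb, hb1⟩ := hQ'.exists_fixed_point_of_prime_dvd_card_of_fixed_point ↥N h2 h1
  have hbc : (b : Q) ∈ Subgroup.center Q := by
    rw [Subgroup.mem_center_iff]
    intro q
    have h3 := congrArg Subtype.val (hb (ConjAct.toConjAct q))
    rw [ConjAct.Subgroup.val_conj_smul, ConjAct.smul_def, ConjAct.ofConjAct_toConjAct] at h3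
    calc q * b = q * b * q⁻¹ * q := by group
      _ = b * q := by rw [h3]
  have hMp : IsPGroup 2 ↥(N ⊓ Subgroup.center Q) := hQ.to_subgroup _
  have hM2 : 2 ∣ Nat.card ↥(N ⊓ Subgroup.center Q) := by
    rcases hMp.card_eq_or_dvd with h | h
    · exfalso
      have h4 : N ⊓ Subgroup.center Q = ⊥ := Subgroup.card_eq_one.1 h
      have hbM : (b : Q) ∈ N ⊓ Subgroup.center Q := ⟨b.2, hbc⟩
      rw [h4, Subgroup.mem_bot] at hbM
      exact hb1 (Subtype.ext hbM.symm)
    · exact h
  obtain ⟨z, hz⟩ := exists_prime_orderOf_dvd_card' 2 hM2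
  exact ⟨z, z.2.1, z.2.2, by rw [← hz]; exact Subgroup.orderOf_coe z⟩

theorem mem_zpowers_two {Q : Type*} [Group Q] {z a : Q} (hz : z ^ 2 = 1)
    (ha : a ∈ Subgroup.zpowers z) : a = 1 ∨ a = z := by
  obtain ⟨k, rfl⟩ := Subgroup.mem_zpowers_iff.1 ha
  rcases Int.emod_two_eq_zero_or_one k with h | h
  · left
    have : k = 2 * (k / 2) := by omega
    rw [this, zpow_mul, zpow_ofNat, hz, one_zpow]
  · right
    have : k = 2 * (k / 2) + 1 := by omega
    rw [this, zpow_add, zpow_mul, zpow_ofNat, hz, one_zpow, one_mul, zpow_one]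

end central

end Cfsg.Agent.Lib.Helper82.TM
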